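import Groth.Prelude.Def_BlowUp2
import Groth.Agent.FpqcDescent.IdealGlue
import Mathlib

/-!
# Effective Cartier ideal sheaves
-/

set_option autoImplicit false

universe u

open CategoryTheory AlgebraicGeometry Limits TopologicalSpace

namespace Groth.Agent.BlowUpLib

variable {X Y : Scheme.{u}}

theorem mem_nonZeroDivisors_map_of_flat {A B : CommRingCat.{u}} (φ : A ⟶ B) (hφ : φ.hom.Flat) {f : A}
    (hf : f ∈ nonZeroDivisors A) : φ.hom f ∈ nonZeroDivisors B := by
  algebraize [φ.hom]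
  rw [← isRegular_iff_mem_nonZeroDivisors, ← isLeftRegular_iff_isRegular, isLeftRegular_iff]
  exact IsSMulRegular.of_flat (isLeftRegular_iff.1 (isRegular_iff_mem_nonZeroDivisors.2 hf).left)

theorem flat_res {U V : X.Opens} (hU : IsAffineOpen U) (hV : IsAffineOpen V) (h : V ≤ U) :
    (X.presheaf.map (homOfLE h).op).hom.Flat := by
  have := (𝟙 X : X ⟶ X).flat_appLE hU hV (by simpa using h)
  rw [Scheme.Hom.appLE, Scheme.Hom.id_app] at this
  exact (show (𝟙 Γ(X, U) ≫ X.presheaf.map (homOfLE h).op) = _ from Category.id_comp _) ▸ this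

/-- a generator on an affine open gives one on every smaller affine open -/
theorem exists_generator_of_le (I : X.IdealSheafData) {U V : X.affineOpens} (h : V ≤ U) {f : Γ(X, U.1)}
    (hf : f ∈ nonZeroDivisors Γ(X, U.1)) (he : I.ideal U = Ideal.span {f}) :
    ∃ g : Γ(X, V.1), g ∈ nonZeroDivisors Γ(X, V.1) ∧ I.ideal V = Ideal.span {g} := by
  refine ⟨(X.presheaf.map (homOfLE h).op).hom f, mem_nonZeroDivisors_map_of_flat _ (flat_res U.2 V.2 h) hf, ?_⟩
  rw [← I.map_ideal h, he, Ideal.map_span, Set.image_singleton]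

/-- an effective Cartier ideal has generators on arbitrarily small affine neighbourhoods -/
theorem exists_small_generator {I : X.IdealSheafData} (hI : BlowUp.IsEffCartierIdeal I) {O : X.Opens}
    {x : X} (hx : x ∈ O) :
    ∃ U : X.affineOpens, x ∈ U.1 ∧ U.1 ≤ O ∧
      ∃ f : Γ(X, U.1), f ∈ nonZeroDivisors Γ(X, U.1) ∧ I.ideal U = Ideal.span {f} := by
  obtain ⟨U, hxU, f, hf, he⟩ := hI x
  obtain ⟨V, hV, hxV, hVle⟩ := exists_isAffineOpen_mem_and_subset (X := X) (U := U.1 ⊓ O) ⟨hxU, hx⟩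
  have hle : (⟨V, hV⟩ : X.affineOpens) ≤ U := fun z hz => (hVle hz).1
  exact ⟨⟨V, hV⟩, hxV, fun z hz => (hVle hz).2, exists_generator_of_le I hle hf he⟩

theorem cartier_top : BlowUp.IsEffCartierIdeal (⊤ : X.IdealSheafData) := fun x => by
  obtain ⟨V, hV, hxV, -⟩ := exists_isAffineOpen_mem_and_subset (X := X) (U := ⊤) (trivial : x ∈ (⊤ : X.Opens))
  exact ⟨⟨V, hV⟩, hxV, 1, one_mem _, by simp⟩

/-- If the image of a morphism avoids the support, the inverse image ideal is the unit ideal. -/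
theorem comap_eq_top (I : Y.IdealSheafData) (g : X ⟶ Y) (h : ∀ x, g.base x ∉ I.support) : I.comap g = ⊤ := by
  rw [← Scheme.IdealSheafData.support_eq_bot_iff, Scheme.IdealSheafData.support_comap]
  exact Closeds.ext (Set.eq_empty_of_forall_notMem h)

theorem comap_mul (I J : Y.IdealSheafData) (g : X ⟶ Y) : (I * J).comap g = I.comap g * J.comap g := by
  have : ∀ x : X, ∃ (U : Y.affineOpens) (W : X.affineOpens), x ∈ W.1 ∧ W.1 ≤ g ⁻¹ᵁ U.1 := fun x => by
    obtain ⟨U, hU, hxU, -⟩ := exists_isAffineOpen_mem_and_subset (X := Y) (U := ⊤) (trivial : g.base x ∈ (⊤ : Y.Opens))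
    obtain ⟨W, hW, hxW, hWle⟩ := exists_isAffineOpen_mem_and_subset (X := X) (U := g ⁻¹ᵁ U) hxU
    exact ⟨⟨U, hU⟩, ⟨W, hW⟩, hxW, hWle⟩
  choose U W hxW hle using this
  refine Scheme.IdealSheafData.ext_of_iSup_eq_top W (eq_top_iff.2 fun x _ => Opens.mem_iSup.2 ⟨x, hxW x⟩) fun x => ?_
  rw [FpqcDescent.ideal_comap_appLE _ g (U x) (W x) (hle x), Scheme.IdealSheafData.ideal_mul, Pi.mul_apply,
    Ideal.map_mul, ← FpqcDescent.ideal_comap_appLE _ g (U x) (W x) (hle x),
    ← FpqcDescent.ideal_comap_appLE _ g (U x) (W x) (hle x)]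
  rfl

theorem cartier_comap_flat {I : Y.IdealSheafData} (hI : BlowUp.IsEffCartierIdeal I) (g : X ⟶ Y) [Flat g] :
    BlowUp.IsEffCartierIdeal (I.comap g) := fun x => by
  obtain ⟨U, hxU, f, hf, he⟩ := hI (g.base x)
  obtain ⟨W, hW, hxW, hle⟩ := exists_isAffineOpen_mem_and_subset (X := X) (U := g ⁻¹ᵁ U.1) hxU
  refine ⟨⟨W, hW⟩, hxW, (g.appLE U.1 W hle).hom f,
    mem_nonZeroDivisors_map_of_flat _ (g.flat_appLE U.2 hW hle) hf, ?_⟩
  rw [FpqcDescent.ideal_comap_appLE I g U ⟨W, hW⟩ hle, he, Ideal.map_span, Set.image_singleton]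

theorem cartier_mul {I J : X.IdealSheafData} (hI : BlowUp.IsEffCartierIdeal I)
    (hJ : BlowUp.IsEffCartierIdeal J) : BlowUp.IsEffCartierIdeal (I * J) := fun x => by
  obtain ⟨U, hxU, f, hf, he⟩ := hI x
  obtain ⟨V, hxV, hVU, g, hg, he'⟩ := exists_small_generator hJ hxU
  obtain ⟨f', hf', he''⟩ := exists_generator_of_le I (show V ≤ U from hVU) hf he
  refine ⟨V, hxV, f' * g, mul_mem hf' hg, ?_⟩
  rw [Scheme.IdealSheafData.ideal_mul, Pi.mul_apply, he'', he', Ideal.span_singleton_mul_span_singleton]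

/-- Factors of an invertible ideal are invertible. -/
theorem exists_cover_of_mul_eq_span {R : Type u} [CommRing R] (I J : Ideal R) {f : R} (hf : f ∈ nonZeroDivisors R)
    (h : I * J = Ideal.span {f}) (P : Ideal R) [P.IsPrime] :
    ∃ c a : R, c ∉ P ∧ a ∈ I ∧ (∃ b ∈ J, a * b = f * c) ∧ ∀ x ∈ I, c * x ∈ Ideal.span {a} := by
  have hfI : f ∈ I * J := h ▸ Ideal.mem_span_singleton_self f
  have key : ∀ z ∈ I * J, ∀ c, z = f * c → c ∉ P → ∃ a ∈ I, ∃ b ∈ J, ∃ c' ∉ P, a * b = f * c' := by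
    intro z hz
    induction hz using Submodule.mul_induction_on' with
    | mem_mul_mem a ha b hb => intro c hc hcP; exact ⟨a, ha, b, hb, c, hcP, hc⟩
    | add y hy z hz ihy ihz =>
      intro c hc hcP
      obtain ⟨cy, rfl⟩ := Ideal.mem_span_singleton.1 (h ▸ hy)
      obtain ⟨cz, rfl⟩ := Ideal.mem_span_singleton.1 (h ▸ hz)
      rw [← mul_add, mul_cancel_left_mem_nonZeroDivisors hf] at hc
      by_cases hcy : cy ∈ P
      · exact ihz cz rfl fun hcz => hcP (hc ▸ P.add_mem hcy hcz)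
      · exact ihy cy rfl hcy
  obtain ⟨a, ha, b, hb, c, hc, hab⟩ := key f hfI 1 (mul_one f).symm
    (fun h1 => Ideal.IsPrime.ne_top ‹_› ((Ideal.eq_top_iff_one P).2 h1))
  refine ⟨c, a, hc, ha, ⟨b, hb, hab⟩, fun x hx => ?_⟩
  obtain ⟨y, hy⟩ := Ideal.mem_span_singleton.1 (h ▸ Ideal.mul_mem_mul hx hb)
  refine Ideal.mem_span_singleton.2 ⟨y, ?_⟩
  rw [← mul_cancel_left_mem_nonZeroDivisors hf]
  calc f * (c * x) = (f * c) * x := by ring
    _ = a * (x * b) := by rw [← hab]; ring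
    _ = f * (a * y) := by rw [hy]; ring

theorem cartier_of_mul_left {I J : X.IdealSheafData} (h : BlowUp.IsEffCartierIdeal (I * J)) :
    BlowUp.IsEffCartierIdeal I := fun x => by
  obtain ⟨U, hxU, f, hf, he⟩ := h x
  rw [Scheme.IdealSheafData.ideal_mul, Pi.mul_apply] at he
  let p := U.2.primeIdealOf ⟨x, hxU⟩
  obtain ⟨c, a, hc, ha, ⟨b, -, hab⟩, hgen⟩ := exists_cover_of_mul_eq_span _ _ hf he p.asIdeal
  have hxc : x ∈ X.basicOpen c := by
    have h1 : U.2.fromSpec.base p ∈ X.basicOpen c := by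
      show p ∈ U.2.fromSpec ⁻¹ᵁ X.basicOpen c
      rw [U.2.fromSpec_preimage_basicOpen]; exact hc
    rwa [IsAffineOpen.fromSpec_primeIdealOf] at h1
  let V : X.affineOpens := X.affineBasicOpen c
  let r : Γ(X, U.1) →+* Γ(X, V.1) := (X.presheaf.map (homOfLE (X.basicOpen_le c)).op).hom
  have hcu : IsUnit (r c) := RingedSpace.isUnit_res_basicOpen X.toRingedSpace c
  have hrf : r f ∈ nonZeroDivisors Γ(X, V.1) :=
    mem_nonZeroDivisors_map_of_flat _ (flat_res U.2 V.2 (X.basicOpen_le c)) hf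
  refine ⟨V, hxc, r a, ?_, le_antisymm ?_ ?_⟩
  · have : r a * r b ∈ nonZeroDivisors Γ(X, V.1) := by
      rw [← map_mul, hab, map_mul]; exact mul_mem hrf hcu.mem_nonZeroDivisors
    exact (mul_mem_nonZeroDivisors.1 this).1
  · rw [← I.map_ideal (U := V) (V := U) (X.basicOpen_le c)]
    refine Ideal.map_le_iff_le_comap.2 fun z hz => ?_
    obtain ⟨w, hw⟩ := Ideal.mem_span_singleton.1 (hgen z hz)
    show r z ∈ Ideal.span {r a}
    rw [Ideal.mem_span_singleton]
    refine (IsUnit.dvd_mul_left hcu).1 ?_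
    rw [← map_mul, hw, map_mul]
    exact dvd_mul_right _ _
  · rw [Ideal.span_singleton_le_iff_mem, ← I.map_ideal (U := V) (V := U) (X.basicOpen_le c)]
    exact Ideal.mem_map_of_mem r ha

theorem cartier_of_mul_right {I J : X.IdealSheafData} (h : BlowUp.IsEffCartierIdeal (I * J)) :
    BlowUp.IsEffCartierIdeal J :=
  cartier_of_mul_left (J := I) (by
    convert h using 1
    exact Scheme.IdealSheafData.ext (by simp [mul_comm]))

/-- On an affine open with generator `f`, the support is the vanishing locus of `f`. -/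
theorem mem_basicOpen_of_notMem_support {I : X.IdealSheafData} {U : X.affineOpens} {f : Γ(X, U.1)}
    (he : I.ideal U = Ideal.span {f}) {x : X} (hx : x ∈ U.1) : x ∉ I.support ↔ x ∈ X.basicOpen f := by
  rw [Scheme.IdealSheafData.mem_support_iff_of_mem hx, he]
  simp [Scheme.zeroLocus_span, Scheme.mem_zeroLocus_iff]

end Groth.Agent.BlowUpLib
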