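import Groth.Agent.BlowUpLib.Cartier
import Mathlib

/-!
# First consequences of the universal property of blowing up
-/

set_option autoImplicit false

universe u

open CategoryTheory AlgebraicGeometry Limits TopologicalSpace

namespace Groth.Agent.BlowUpLib

variable {X X' Y : Scheme.{u}} {𝓘 : X.IdealSheafData} {b : X' ⟶ X}

theorem comap_restrict_eq_top {Z : Scheme.{u}} (𝓘 : X.IdealSheafData) (g : Z ⟶ X)
    (h : ∀ z, g.base z ∈ 𝓘.support.compl) : BlowUp.IsEffCartierIdeal (𝓘.comap g) := by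
  rw [comap_eq_top 𝓘 g fun z => h z]
  exact cartier_top

theorem isIso_restrict (hb : BlowUp.IsBlowUp b 𝓘) : IsIso (b ∣_ 𝓘.support.compl) := by
  let U : X.Opens := 𝓘.support.compl
  obtain ⟨h, hh, -⟩ := hb.2 U.toScheme U.ι (comap_restrict_eq_top 𝓘 U.ι fun z => z.2)
  have hrange : Set.range h.base ⊆ Set.range (b ⁻¹ᵁ U).ι.base := by
    rw [Scheme.Opens.range_ι]
    rintro _ ⟨z, rfl⟩
    show b.base (h.base z) ∈ U
    rw [← Scheme.Hom.comp_apply, hh]
    exact z.2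
  let k : U.toScheme ⟶ (b ⁻¹ᵁ U).toScheme := IsOpenImmersion.lift (b ⁻¹ᵁ U).ι h hrange
  have hk : k ≫ (b ⁻¹ᵁ U).ι = h := IsOpenImmersion.lift_fac _ _ _
  refine ⟨k, ?_, ?_⟩
  · rw [← cancel_mono (b ⁻¹ᵁ U).ι, Category.assoc, hk, Category.id_comp]
    refine (hb.2 _ ((b ⁻¹ᵁ U).ι ≫ b) (comap_restrict_eq_top 𝓘 _ fun z => ?_)).unique ?_ rfl
    · exact z.2
    · rw [Category.assoc, hh, morphismRestrict_ι]
  · rw [← cancel_mono U.ι, Category.assoc, morphismRestrict_ι, reassoc_of% hk, hh, Category.id_comp]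

theorem isIso_stalkMap (hb : BlowUp.IsBlowUp b 𝓘) {x : X'} (hx : b.base x ∈ 𝓘.support.compl) :
    IsIso (b.stalkMap x) := by
  let U : X.Opens := 𝓘.support.compl
  have := isIso_restrict hb
  have : IsOpenImmersion ((b ⁻¹ᵁ U).ι ≫ b) := by
    rw [← morphismRestrict_ι]; infer_instance
  let z : (b ⁻¹ᵁ U).toScheme := ⟨x, hx⟩
  have h1 : IsIso (((b ⁻¹ᵁ U).ι ≫ b).stalkMap z) := inferInstance
  rw [Scheme.Hom.stalkMap_comp] at h1
  have h1' := h1
  have : IsIso ((b ⁻¹ᵁ U).ι.stalkMap z) := (inferInstance : ∀ w : (b ⁻¹ᵁ U).toScheme, IsIso ((b ⁻¹ᵁ U).ι.stalkMap w)) z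
  exact @IsIso.of_isIso_comp_right _ _ _ _ _ (b.stalkMap ((b ⁻¹ᵁ U).ι z)) ((b ⁻¹ᵁ U).ι.stalkMap z) this h1'

/-- A section over an affine open vanishing at all points of the basic open of a nonzerodivisor is zero. -/
theorem eq_zero_of_germ {W : X.affineOpens} {g : Γ(X, W.1)} (hg : g ∈ nonZeroDivisors Γ(X, W.1))
    (a : Γ(X, W.1)) (h : ∀ x (hx : x ∈ X.basicOpen g),
      X.presheaf.germ W.1 x (X.basicOpen_le g hx) a = 0) : a = 0 := by
  have hres : (X.presheaf.map (homOfLE (X.basicOpen_le g)).op).hom a = 0 := by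
    refine TopCat.Presheaf.section_ext X.sheaf (X.basicOpen g) _ _ fun x hx => ?_
    exact ((X.presheaf.germ_res_apply _ _ _ _).trans (h x hx)).trans (map_zero _).symm
  have := W.2.isLocalization_basicOpen g
  have h2 : algebraMap Γ(X, W.1) Γ(X, X.basicOpen g) a = 0 := hres
  obtain ⟨⟨_, n, rfl⟩, hn⟩ := (IsLocalization.map_eq_zero_iff (Submonoid.powers g) _ a).1 h2
  exact (mul_left_mem_nonZeroDivisors_eq_zero_iff (pow_mem hg n)).1 hn

theorem notMem_support_of_mem_basicOpen (b : X' ⟶ X) (𝓘 : X.IdealSheafData) {W : X'.affineOpens}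
    {g : Γ(X', W.1)} (he : (𝓘.comap b).ideal W = Ideal.span {g}) {x : X'} (hx : x ∈ X'.basicOpen g) :
    b.base x ∈ 𝓘.support.compl := by
  have h := (mem_basicOpen_of_notMem_support he (X'.basicOpen_le g hx)).2 hx
  rw [Scheme.IdealSheafData.support_comap] at h
  exact h

/-- An effective Cartier ideal pulls back to one along a blow-up. -/
theorem cartier_comap_blowUp {J : X.IdealSheafData} (hb : BlowUp.IsBlowUp b 𝓘)
    (hJ : BlowUp.IsEffCartierIdeal J) : BlowUp.IsEffCartierIdeal (J.comap b) := fun x => by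
  obtain ⟨U, hxU, f, hf, he⟩ := hJ (b.base x)
  obtain ⟨W, hxW, hWU, g, hg, hge⟩ := exists_small_generator hb.1 (O := b ⁻¹ᵁ U.1) (x := x) hxU
  refine ⟨W, hxW, (b.appLE U.1 W.1 hWU).hom f, mem_nonZeroDivisors_iff_right.2 fun a ha => ?_, ?_⟩
  · refine eq_zero_of_germ hg a fun y hy => ?_
    have hy' : y ∈ W.1 := X'.basicOpen_le g hy
    have hiso := isIso_stalkMap hb (notMem_support_of_mem_basicOpen b 𝓘 hge hy)
    have hyU : b.base y ∈ U.1 := hWU hy'
    let e := X.presheaf.germ U.1 (b.base y) hyU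
    have hflat : e.hom.Flat := by
      let _ := e.hom.toAlgebra
      have hloc : @IsLocalization _ _ (U.2.primeIdealOf ⟨_, hyU⟩).asIdeal.primeCompl _ _ e.hom.toAlgebra :=
        U.2.isLocalization_stalk ⟨_, hyU⟩
      exact @IsLocalization.flat _ _ _ _ _ _ hloc
    have hreg := mem_nonZeroDivisors_map_of_flat _ hflat hf
    have hreg' := mem_nonZeroDivisors_map_of_flat (b.stalkMap y)
      (RingHom.Flat.of_bijective (ConcreteCategory.bijective_of_isIso (b.stalkMap y))) hreg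
    have hgerm : (b.stalkMap y).hom (e.hom f) = X'.presheaf.germ W.1 y hy' ((b.appLE U.1 W.1 hWU).hom f) := by
      rw [Scheme.Hom.appLE, CommRingCat.hom_comp, RingHom.comp_apply]
      exact (Scheme.Hom.germ_stalkMap_apply b U.1 y hyU f).trans (X'.presheaf.germ_res_apply _ _ _ _).symm
    have h0 := congrArg (X'.presheaf.germ W.1 y hy').hom ha
    rw [map_mul, map_zero] at h0
    rw [hgerm] at hreg'
    exact (mul_right_mem_nonZeroDivisors_eq_zero_iff hreg').1 h0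
  · rw [FpqcDescent.ideal_comap_appLE J b U W hWU, he, Ideal.map_span, Set.image_singleton]

theorem isBlowUp_comp {X'' : Scheme.{u}} {𝓙 : X.IdealSheafData} (hb : BlowUp.IsBlowUp b 𝓘)
    {b' : X'' ⟶ X'} (hb' : BlowUp.IsBlowUp b' (𝓙.comap b)) : BlowUp.IsBlowUp (b' ≫ b) (𝓘 * 𝓙) := by
  refine ⟨?_, fun Y g hg => ?_⟩
  · rw [comap_mul, Scheme.IdealSheafData.comap_comp, Scheme.IdealSheafData.comap_comp]
    exact cartier_mul (cartier_comap_blowUp hb' hb.1) hb'.1
  rw [comap_mul] at hg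
  obtain ⟨h, hh, huniq⟩ := hb.2 Y g (cartier_of_mul_left hg)
  obtain ⟨h', hh', huniq'⟩ := hb'.2 Y h (by
    rw [← Scheme.IdealSheafData.comap_comp, hh]; exact cartier_of_mul_right hg)
  refine ⟨h', (Category.assoc h' b' b).symm.trans ((congrArg (· ≫ b) hh').trans hh), fun k hk => ?_⟩
  exact huniq' k (huniq _ ((Category.assoc k b' b).trans hk))

theorem isReduced_blowUp [IsReduced X] (hb : BlowUp.IsBlowUp b 𝓘) : IsReduced X' := by
  have hsec : ∀ x : X', ∃ W : X'.affineOpens, x ∈ W.1 ∧ _root_.IsReduced Γ(X', W.1) := fun x => by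
    obtain ⟨W, hxW, g, hg, hge⟩ := hb.1 x
    refine ⟨W, hxW, ⟨fun a ha => eq_zero_of_germ hg a fun y hy => ?_⟩⟩
    have hiso := isIso_stalkMap hb (notMem_support_of_mem_basicOpen b 𝓘 hge hy)
    have : _root_.IsReduced (X'.presheaf.stalk y) :=
      isReduced_of_injective (inv (b.stalkMap y)).hom (ConcreteCategory.bijective_of_isIso (inv (b.stalkMap y))).1
    exact (ha.map (X'.presheaf.germ W.1 y _).hom).eq_zero
  have : ∀ x : X', _root_.IsReduced (X'.presheaf.stalk x) := fun x => by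
    obtain ⟨W, hxW, hred⟩ := hsec x
    let _ := (X'.presheaf.germ W.1 x hxW).hom.toAlgebra
    have hloc : @IsLocalization _ _ (W.2.primeIdealOf ⟨x, hxW⟩).asIdeal.primeCompl _ _
        (X'.presheaf.germ W.1 x hxW).hom.toAlgebra := W.2.isLocalization_stalk ⟨x, hxW⟩
    exact isReduced_localizationPreserves (W.2.primeIdealOf ⟨x, hxW⟩).asIdeal.primeCompl _ hred
  exact isReduced_of_isReduced_stalk X'

theorem isBlowUp_flat {X₁ : Scheme.{u}} (g : X₁ ⟶ X) [Flat g] (hb : BlowUp.IsBlowUp b 𝓘) :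
    BlowUp.IsBlowUp (pullback.fst g b) (𝓘.comap g) := by
  refine ⟨?_, fun Y y hy => ?_⟩
  · rw [← Scheme.IdealSheafData.comap_comp, pullback.condition, Scheme.IdealSheafData.comap_comp]
    exact cartier_comap_flat hb.1 _
  obtain ⟨h, hh, huniq⟩ := hb.2 Y (y ≫ g) (by rwa [Scheme.IdealSheafData.comap_comp])
  refine ⟨pullback.lift y h hh.symm, pullback.lift_fst _ _ _, fun k hk => ?_⟩
  apply pullback.hom_ext
  · rw [pullback.lift_fst]; exact hk
  · rw [pullback.lift_snd]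
    refine huniq _ ?_
    show (k ≫ pullback.snd g b) ≫ b = y ≫ g
    rw [Category.assoc, ← pullback.condition, ← Category.assoc]
    exact congrArg (· ≫ g) hk

/-- a maximal point of an affine open containing it gives a minimal prime -/
theorem minimal_of_maximalPt (W : X.affineOpens) {q : Spec Γ(X, W.1)}
    (hq : ∀ y : X, y ⤳ W.2.fromSpec.base q → y = W.2.fromSpec.base q) : q.asIdeal ∈ minimalPrimes Γ(X, W.1) :=
  ⟨⟨q.isPrime, bot_le⟩, fun Q hQ hle => by
    have h1 : (⟨Q, hQ.1⟩ : Spec Γ(X, W.1)) ⤳ q := (PrimeSpectrum.le_iff_specializes ⟨Q, hQ.1⟩ q).1 hle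
    have h2 := hq _ (h1.map W.2.fromSpec.continuous)
    rw [← congrArg PrimeSpectrum.asIdeal (W.2.fromSpec.isOpenEmbedding.injective h2)]⟩

theorem notMem_support_of_maximalPt {I : X.IdealSheafData} (hI : BlowUp.IsEffCartierIdeal I) {x : X}
    (hx : ∀ y : X, y ⤳ x → y = x) : x ∉ I.support := by
  obtain ⟨W, hxW, g, hg, hge⟩ := hI x
  obtain ⟨q, rfl⟩ : x ∈ Set.range W.2.fromSpec.base := by rw [IsAffineOpen.range_fromSpec]; exact hxW
  rw [mem_basicOpen_of_notMem_support hge hxW]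
  show q ∈ W.2.fromSpec ⁻¹ᵁ X.basicOpen g
  rw [W.2.fromSpec_preimage_basicOpen]
  have hmin := minimal_of_maximalPt W hx
  exact fun hgq => (Ideal.disjoint_nonZeroDivisors_of_mem_minimalPrimes hmin).le_bot ⟨hgq, hg⟩

theorem bijOn_maximalPts (hb : BlowUp.IsBlowUp b 𝓘) :
    Set.BijOn (fun x' => b.base x') {x' : X' | ∀ y : X', y ⤳ x' → y = x'}
      {x : X | (∀ y : X, y ⤳ x → y = x) ∧ x ∉ 𝓘.support} := by
  let U : X.Opens := 𝓘.support.compl
  have := isIso_restrict hb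
  have : IsOpenImmersion ((b ⁻¹ᵁ U).ι ≫ b) := by rw [← morphismRestrict_ι]; infer_instance
  have hemb := ((b ⁻¹ᵁ U).ι ≫ b).isOpenEmbedding
  have hinj : Set.InjOn b.base {x' | b.base x' ∈ U} := fun p hp q hq hpq =>
    congrArg Subtype.val (hemb.injective (a₁ := (⟨p, hp⟩ : (b ⁻¹ᵁ U).toScheme)) (a₂ := ⟨q, hq⟩) hpq)
  have hout : ∀ x' : X', (∀ y, y ⤳ x' → y = x') → b.base x' ∈ U := fun x' hx' => by
    have h := notMem_support_of_maximalPt hb.1 hx'
    rwa [Scheme.IdealSheafData.support_comap] at h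
  have hsurjU : ∀ x ∈ U, ∃ p : (b ⁻¹ᵁ U).toScheme, b.base p.1 = x := fun x hx => by
    obtain ⟨p, hp⟩ := (b ∣_ U).surjective ⟨x, hx⟩
    refine ⟨p, ?_⟩
    have := congrArg Subtype.val hp
    rwa [morphismRestrict_base_coe] at this
  refine ⟨fun x' hx' => ⟨fun y hy => ?_, hout x' hx'⟩, fun p hp q hq => hinj (hout p hp) (hout q hq), ?_⟩
  · have hyU : y ∈ U := hy.mem_open U.isOpen (hout x' hx')
    obtain ⟨p, rfl⟩ := hsurjU y hyU
    have h1 : p ⤳ (⟨x', hout x' hx'⟩ : (b ⁻¹ᵁ U).toScheme) := hemb.isInducing.specializes_iff.1 hy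
    exact congrArg b.base (hx' p.1 (h1.map continuous_subtype_val))
  · rintro x ⟨hx, hxU⟩
    obtain ⟨p, rfl⟩ := hsurjU x hxU
    refine ⟨p.1, fun y hy => ?_, rfl⟩
    have hyU : b.base y ∈ U := (hy.map b.continuous).mem_open U.isOpen p.2
    exact hinj hyU p.2 (hx _ (hy.map b.continuous))

end Groth.Agent.BlowUpLib
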